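import Cfsg.Agent.FixBN.FieldRGD
import Cfsg.Agent.Nodes.NormalForm
import Cfsg.Agent.Nodes.RGDLib
import Cfsg.Agent.S0319
import Cfsg.Prelude.Def_Local
import Cfsg.Agent.FastGrp
import Cfsg.Agent.Prune
set_option linter.all false
prune_inst 0x7f00000000000000000000000000000000000000000000000000000000000000000000000000000000000000000000000000000000000000000000000000000000000000000000000000000000000000003fffffffffffffffffffffffffffbeffbdffffffff
open scoped Cfsg.Agent.FastGrp

/-!
# Quasisimple groups with a root group datum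

`isQuasisimple_of_rgd` : a perfect group generated by the root groups of a root group datum with connected diagram and
solvable torus is quasisimple.

`centralizer_le_normalizer` : `C_Y(z)`, `z ∈ T`, normalises `H` as soon as the `C_{X x}(z)` and `C_N(z)` do.
-/

set_option autoImplicit false
set_option linter.unusedSectionVars false

namespace Cfsg.Agent.UGT.U2.FOne.QsRGD

open CoxeterSystem Cfsg.Agent.ChevalleyStructure.CoxeterGeom Cfsg.Agent.Tits.Roots Cfsg.Agent.Tits.Core
  Cfsg.Agent.Tits.Exchange Cfsg.Agent.Nodes.Reps Cfsg.Agent.Nodes.BNOf Cfsg.Agent.Nodes.StabComb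
  Cfsg.Agent.Nodes.Bruhat Cfsg.Agent.Nodes.OppDec Cfsg.Agent.Nodes.RGDLib

variable {I W Y : Type*} [Fintype I] [DecidableEq I] [Group W] [Group Y] {M : CoxeterMatrix I}
  {cs : CoxeterSystem M W} {A : I → I → ℤ} {h : IsCartan M A} {p : ℕ} {T : Subgroup Y} {n : I → Y}
  {X : (I → ℤ) → Subgroup Y}

section Quasi

/-- A normal subgroup of a group with an irreducible `BN`-pair with `B` solvable, `G` perfect. -/
theorem eq_top_or_le_B {G : Type*} [Group G] (P : Cfsg.BNPair G) (hirr : P.Irreducible)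
    (hsolv : Group.IsSolvable P.B) (hperf : commutator G = ⊤) (H : Subgroup G) [H.Normal] : H = ⊤ ∨ H ≤ P.B := by
  obtain ⟨J, hJ, hHJ⟩ : ∃ J ⊆ P.S, H ⊔ P.B = P.parabolic J :=
    ⟨_, Set.inter_subset_left, LieExceptional.BNPairCore.eq_parabolic le_sup_right⟩
  have hcomm : ∀ s ∈ J, ∀ s' ∈ P.S \ J, s * s' * s⁻¹ * s'⁻¹ ∈ P.B := fun s hs s' hs' =>
    S0319.commute_of_normal P H hJ hHJ hs hs'
  rcases J.eq_empty_or_nonempty with rfl | hJne
  · right
    have : P.parabolic ∅ = P.B := by
      show P.B ⊔ Subgroup.closure ∅ = P.B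
      rw [Subgroup.closure_empty, sup_bot_eq]
    rw [← this, ← hHJ]
    exact le_sup_left
  · left
    rcases (P.S \ J).eq_empty_or_nonempty with hemp | hne
    · have hJS : J = P.S := Set.Subset.antisymm hJ (Set.sdiff_eq_empty.1 hemp)
      have htop : H ⊔ P.B = ⊤ := by
        rw [hHJ, hJS, eq_top_iff, ← P.sup_eq_top]
        refine sup_le le_sup_left ?_
        rw [← P.closure_sup]
        refine sup_le le_sup_right (le_trans inf_le_left le_sup_left)
      have hsurj : Function.Surjective ((QuotientGroup.mk' H).comp P.B.subtype) := by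
        intro q
        obtain ⟨g, rfl⟩ := QuotientGroup.mk'_surjective H q
        have hg : g ∈ H ⊔ P.B := by rw [htop]; trivial
        obtain ⟨h, hh, b, hb, hhb⟩ := (Subgroup.mem_sup_of_normal_left).1 hg
        refine ⟨⟨b, hb⟩, ?_⟩
        have : (QuotientGroup.mk' H) g = (QuotientGroup.mk' H) h * (QuotientGroup.mk' H) b := by
          rw [← map_mul, hhb]
        rw [this]
        have h1 : (QuotientGroup.mk' H) h = 1 := (QuotientGroup.eq_one_iff h).2 hh
        rw [h1, one_mul]
        rfl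
      have hsolvQ : Group.IsSolvable (G ⧸ H) := Group.isSolvable_of_surjective hsurj
      by_contra hne
      have hnt : Nontrivial (G ⧸ H) := by
        rw [← not_subsingleton_iff_nontrivial]
        intro hsub
        exact hne (QuotientGroup.subgroup_eq_top_of_subsingleton H hsub)
      have hlt := Group.IsSolvable.commutator_lt_top_of_nontrivial (G := G ⧸ H)
      have hmap : commutator (G ⧸ H) = ⊤ := by
        have h1 : (commutator G).map (QuotientGroup.mk' H) = commutator (G ⧸ H) := by
          rw [commutator_def, Subgroup.map_commutator, commutator_def]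
          rw [Subgroup.map_top_of_surjective _ (QuotientGroup.mk'_surjective H)]
        rw [← h1, hperf, Subgroup.map_top_of_surjective _ (QuotientGroup.mk'_surjective H)]
      exact hlt.ne hmap
    · exfalso
      obtain ⟨s, hs, s', hs', h⟩ := hirr J hJ hJne hne
      exact h (hcomm s hs s' hs')

variable [Finite W] (R : RGD cs h p T n X)

include R

/-- A normal subgroup contained in `B` is central. -/
theorem le_center_of_le_B (hG : G1 cs h X = ⊤) (H : Subgroup Y) [hH : H.Normal] (hB : H ≤ RGD.B cs h T X) :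
    H ≤ Subgroup.center Y := by
  have hT : H ≤ T := by
    obtain ⟨k, hk⟩ := exists_rp cs R.nsys (w0 cs)
    have h1 : H ≤ BN cs h T X := by
      rw [← cj_B R hk]
      intro x hx
      have h2 : k⁻¹ * x * k ∈ H := by
        have := hH.conj_mem x hx k⁻¹
        rwa [inv_inv] at this
      have h3 : k * (k⁻¹ * x * k) * k⁻¹ ∈ cj k (RGD.B cs h T X) := conj_mem_cj.2 (hB h2)
      have h4 : k * (k⁻¹ * x * k) * k⁻¹ = x := by group
      rwa [h4] at h3
    exact (le_inf hB h1).trans (B_inf_BN R).le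
  have hX : ∀ x, IsRoot cs h x → ∀ u ∈ X x, ∀ g ∈ H, g * u = u * g := by
    intro x hx u hu g hg
    have h1 : g * u * g⁻¹ ∈ X x := by
      have h0 : g * u * g⁻¹ ∈ cj g (X x) := conj_mem_cj.2 hu
      rwa [R.tor x hx g (hT hg)] at h0
    have h2 : g * u * g⁻¹ * u⁻¹ ∈ X x := mul_mem h1 (inv_mem hu)
    have h3 : g * u * g⁻¹ * u⁻¹ ∈ T := by
      have h4 : u * g⁻¹ * u⁻¹ ∈ H := hH.conj_mem _ (inv_mem hg) u
      have h5 : g * (u * g⁻¹ * u⁻¹) ∈ T := hT (mul_mem hg h4)
      have h6 : g * u * g⁻¹ * u⁻¹ = g * (u * g⁻¹ * u⁻¹) := by group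
      rw [h6]; exact h5
    have h4 : g * u * g⁻¹ * u⁻¹ ∈ X x ⊓ T := ⟨h2, h3⟩
    rw [X_inf_T R hx, Subgroup.mem_bot] at h4
    rw [mul_inv_eq_one, mul_inv_eq_iff_eq_mul] at h4
    exact h4
  intro g hg
  rw [Subgroup.mem_center_iff]
  have h1 : G1 cs h X ≤ Subgroup.centralizer ({g} : Set Y) := by
    refine RGD.Sup_le fun x hx u hu => ?_
    rw [Subgroup.mem_centralizer_iff]
    rintro _ rfl
    exact hX x hx u hu _ hg
  intro y
  have h2 : y ∈ G1 cs h X := by rw [hG]; trivial
  exact (Subgroup.mem_centralizer_iff.1 (h1 h2) g rfl).symm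

/-- **Quasisimplicity.** -/
theorem isQuasisimple_of_rgd [Finite Y] [Nonempty I] [Fact p.Prime] (hG : G1 cs h X = ⊤)
    (hconn : ∀ J : Set I, J.Nonempty → J ≠ Set.univ → ∃ a ∈ J, ∃ b, b ∉ J ∧ M a b ≠ 2)
    (hT : Group.IsSolvable T) (hperf : commutator Y = ⊤) : Cfsg.IsQuasisimple Y := by
  have hgen := rgd_gen_of_G1 R hG
  have key : ∀ H : Subgroup Y, H.Normal → H = ⊤ ∨ H ≤ Subgroup.center Y := by
    intro H hH
    rcases eq_top_or_le_B (R.bnPair hgen) (R.bnPair_irreducible hgen hconn)
      (Cfsg.Agent.FixBN.FieldRGD.isSolvable_B R hT) hperf H with h1 | h1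
    · exact Or.inl h1
    · exact Or.inr (le_center_of_le_B R hG H h1)
  have hne : Subgroup.center Y ≠ ⊤ := by
    intro h1
    have h2 : commutator Y = ⊥ := by
      rw [commutator_def, ← h1]
      rw [Subgroup.commutator_eq_bot_iff_le_centralizer]
      exact (Subgroup.center_le_centralizer _)
    rw [h2] at hperf
    obtain ⟨i⟩ := (inferInstance : Nonempty I)
    obtain ⟨u, hu, hu1⟩ := exists_ne_one R i
    have h3 : u ∈ (⊥ : Subgroup Y) := by rw [hperf]; trivial
    exact hu1 (Subgroup.mem_bot.1 h3)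
  refine ⟨⟨hperf⟩, ?_⟩
  have hnt : Nontrivial (Y ⧸ Subgroup.center Y) := by
    rw [← not_subsingleton_iff_nontrivial]
    intro hsub
    exact hne (QuotientGroup.subgroup_eq_top_of_subsingleton _ hsub)
  refine ⟨fun H hH => ?_⟩
  rcases key (H.comap (QuotientGroup.mk' (Subgroup.center Y))) inferInstance with h1 | h1
  · right
    rw [eq_top_iff]
    intro x _
    obtain ⟨y, rfl⟩ := QuotientGroup.mk'_surjective _ x
    have : y ∈ H.comap (QuotientGroup.mk' (Subgroup.center Y)) := by rw [h1]; trivial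
    exact this
  · left
    rw [eq_bot_iff]
    intro x hx
    obtain ⟨y, rfl⟩ := QuotientGroup.mk'_surjective _ x
    rw [Subgroup.mem_bot]
    exact (QuotientGroup.eq_one_iff y).2 (h1 hx)

end Quasi

section Cent

variable [Finite W] (R : RGD cs h p T n X)

include R

/-- **`C_Y(z)` normalises `H`.** -/
theorem centralizer_le_normalizer {z : Y} (hz : z ∈ T) (hG : GG cs h T X = ⊤) {H : Subgroup Y}
    (hX : ∀ x, IsRoot cs h x → ∀ u ∈ X x, u * z = z * u → u ∈ Subgroup.normalizer (H : Set Y))
    (hN : ∀ w k, Rp cs R.nsys w k → k * z = z * k → k ∈ Subgroup.normalizer (H : Set Y)) :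
    Subgroup.centralizer ({z} : Set Y) ≤ Subgroup.normalizer (H : Set Y) := by
  intro g hg
  obtain ⟨u, hu, w, k, hk, hkz, v, hv, rfl⟩ := Cfsg.Agent.Nodes.NormalForm.mem_centralizer R
    (Set.singleton_subset_iff.2 hz) (by rw [hG]; trivial) hg
  have h1 : RGD.Sup (fun x => X x ⊓ Subgroup.centralizer ({z} : Set Y)) (RGD.Pos cs h) ≤
      Subgroup.normalizer (H : Set Y) := by
    refine RGD.Sup_le fun x hx u hu => ?_
    exact hX x hx.1 u hu.1 (Subgroup.mem_centralizer_iff.1 hu.2 z rfl).symm
  exact mul_mem (mul_mem (h1 hu) (hN w k hk (Subgroup.mem_centralizer_iff.1 hkz z rfl).symm)) (h1 hv)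

end Cent

/-- `H` normalised by `C` is subnormal in `C`. -/
theorem subnormal_of_le_normalizer {G : Type*} [Group G] {C H : Subgroup G}
    (h : C ≤ Subgroup.normalizer (H : Set G)) : (H.subgroupOf C).IsSubnormal := by
  have : (H.subgroupOf C).Normal := by
    constructor
    intro x hx g
    rw [Subgroup.mem_subgroupOf] at hx ⊢
    exact (Subgroup.mem_normalizer_iff.1 (h g.2) _).1 hx
  exact this.isSubnormal

end Cfsg.Agent.UGT.U2.FOne.QsRGD
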